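import Cfsg.Agent.Lib.Helper7.GlS3.Defs

set_option autoImplicit false

namespace Cfsg.Agent.Lib.Helper74.GlS3

open Subgroup Cfsg.Agent.Lib.Helper7.GlS3 Cfsg.Agent.Lib.Helper48
open scoped commutatorElement

theorem repl {G : Type*} [Group G] [Finite G] (V A : Subgroup G)
    (hV : Cfsg.IsElementaryAbelian 2 V) (hAV : A ≤ normalizer (V : Set G))
    (hab : IsMulCommutative A) (hmax : MaxProd V A) :
    Cfsg.IsBestOffenderOn 2 V (A ⊓ centralizer ((⁅V, A⁆ : Subgroup G) : Set G)) ∧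
      V ⊓ centralizer ((A ⊓ centralizer ((⁅V, A⁆ : Subgroup G) : Set G) : Subgroup G) : Set G) =
        ⁅V, A⁆ ⊔ (V ⊓ centralizer (A : Set G)) := by
  have : Fact (Nat.Prime 2) := ⟨Nat.prime_two⟩
  have hAA : ⁅A, A⁆ = ⊥ := by
    rw [commutator_eq_bot_iff_le_centralizer]
    intro x hx
    rw [mem_centralizer_iff]
    intro y hy
    exact congrArg Subtype.val (mul_comm' (⟨y, hy⟩ : A) ⟨x, hx⟩)
  obtain ⟨B, hBA, h | ⟨rfl, h2, h3⟩⟩ := Cfsg.Agent.S0598.result V A hV hAV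
    (by rw [hAA]; exact bot_le) V le_rfl
  · exact absurd (hmax B hBA) (not_le.2 h)
  · refine ⟨⟨?_, ?_, ?_⟩, h2⟩
    · intro B' hB'
      rw [← h3]
      exact hmax B' (hB'.trans hBA)
    · have : ⁅A ⊓ centralizer ((⁅V, A⁆ : Subgroup G) : Set G),
          A ⊓ centralizer ((⁅V, A⁆ : Subgroup G) : Set G)⁆ ≤ ⁅A, A⁆ :=
        commutator_mono inf_le_left inf_le_left
      rw [hAA] at this
      exact this.trans bot_le
    · intro b hb
      obtain ⟨hbA, hbC⟩ := mem_inf.1 hb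
      rw [mem_centralizer_iff]
      intro v hv
      have hvV : v ∈ V := hv
      have hc1 : ⁅v, b⁆ ∈ ⁅V, A⁆ := commutator_mem_commutator hvV hbA
      have hc2 : ⁅v, b⁆ * b = b * ⁅v, b⁆ := (mem_centralizer_iff.1 hbC) _ hc1
      have hbv : b * v⁻¹ * b⁻¹ ∈ V := (mem_normalizer_iff.1 (hAV hbA) v⁻¹).1 (V.inv_mem hvV)
      have hcV : ⁅v, b⁆ ∈ V := by
        have e : ⁅v, b⁆ = v * (b * v⁻¹ * b⁻¹) := by rw [commutatorElement_def]; group
        rw [e]; exact V.mul_mem hvV hbv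
      have hc3 : ⁅v, b⁆ ^ 2 = 1 := hV.2 _ hcV
      -- v * b = c * b * v
      have e1 : v * b = ⁅v, b⁆ * (b * v) := by rw [commutatorElement_def]; group
      calc v * b ^ 2 = (v * b) * b := by rw [pow_two, mul_assoc]
        _ = ⁅v, b⁆ * (b * v) * b := by rw [e1]
        _ = ⁅v, b⁆ * b * (v * b) := by simp only [mul_assoc]
        _ = ⁅v, b⁆ * b * (⁅v, b⁆ * (b * v)) := by rw [e1]
        _ = ⁅v, b⁆ * (b * ⁅v, b⁆) * (b * v) := by simp only [mul_assoc]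
        _ = ⁅v, b⁆ * (⁅v, b⁆ * b) * (b * v) := by rw [hc2]
        _ = ⁅v, b⁆ ^ 2 * (b ^ 2 * v) := by simp only [pow_two, mul_assoc]
        _ = b ^ 2 * v := by rw [hc3, one_mul]

end Cfsg.Agent.Lib.Helper74.GlS3
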