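import Cfsg.Agent.Lib.Helper7.GlS3.Defs
import Cfsg.Agent.Lib.Helper50.ThompsonA

set_option autoImplicit false

namespace Cfsg.Agent.Lib.Helper74.GlS3

open Subgroup Cfsg.Agent.Lib.Helper7.GlS3 Cfsg.Agent.Lib.Helper48 Cfsg.Agent.Lib.Helper50
open scoped Pointwise

theorem XE_mem_AAll {X : Type*} [Group X] (A : Subgroup X) :
    A ∈ AAll X ↔ ∃ T : Sylow 2 X, IsMaxAbIn (T : Subgroup X) A := by
  constructor
  · rintro ⟨T, A', hA', rfl⟩
    exact ⟨T, isMaxAbIn_map hA'⟩
  · rintro ⟨T, h1, h2, h3⟩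
    refine ⟨T, A.subgroupOf T, ⟨inferInstance, ?_⟩, ?_⟩
    · intro B' hB'
      have := h3 (B'.map (T : Subgroup X).subtype) (map_subtype_le _)
        (Subgroup.map_isMulCommutative B' (T : Subgroup X).subtype)
      rw [card_map_of_injective (T : Subgroup X).subtype_injective] at this
      rwa [Nat.card_congr (subgroupOfEquivOfLe h1).toEquiv]
    · rw [subgroupOf_map_subtype, inf_eq_left.mpr h1]

theorem XE_map {X : Type*} [Group X] {T A : Subgroup X} (h : IsMaxAbIn T A) (g : X) :
    IsMaxAbIn (T.map (MulAut.conj g).toMonoidHom) (A.map (MulAut.conj g).toMonoidHom) :=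
  Cfsg.Agent.Lib.Helper11.IsMaxIn.map (Q := fun A : Subgroup X => IsMulCommutative A)
    (fun φ A hA => by have := hA; exact Subgroup.map_isMulCommutative A φ.toMonoidHom)
    (MulAut.conj g) h

theorem XE_coe_smul {X : Type*} [Group X] (T : Sylow 2 X) (g : X) :
    ((g • T : Sylow 2 X) : Subgroup X) = (T : Subgroup X).map (MulAut.conj g).toMonoidHom := rfl

theorem XE_conj_mem {X : Type*} [Group X] {A : Subgroup X} (hA : A ∈ AAll X) (g : X) :
    A.map (MulAut.conj g).toMonoidHom ∈ AAll X := by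
  obtain ⟨T, hT⟩ := (XE_mem_AAll A).1 hA
  exact (XE_mem_AAll _).2 ⟨g • T, by rw [XE_coe_smul]; exact XE_map hT g⟩

theorem XE_normal {X : Type*} [Group X] : (sSup (AAll X)).Normal := by
  constructor
  intro x hx g
  have key : (sSup (AAll X)).map (MulAut.conj g).toMonoidHom ≤ sSup (AAll X) := by
    rw [map_le_iff_le_comap]
    apply sSup_le
    intro A hA
    rw [← map_le_iff_le_comap]
    exact le_sSup (XE_conj_mem hA g)
  exact key ⟨x, hx, rfl⟩

theorem normalClosure_eq {X : Type*} [Group X] [Finite X] (T : Sylow 2 X) :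
    normalClosure (Cfsg.thompsonSubgroupAOf (T : Subgroup X) : Set X) = sSup (AAll X) := by
  have : Fact (Nat.Prime 2) := ⟨Nat.prime_two⟩
  apply le_antisymm
  · have := XE_normal (X := X)
    apply normalClosure_le_normal
    exact thompsonSubgroupAOf_le (fun A hA => le_sSup ((XE_mem_AAll A).2 ⟨T, hA⟩))
  · apply sSup_le
    intro A hA
    obtain ⟨T', hT'⟩ := (XE_mem_AAll A).1 hA
    obtain ⟨g, hg⟩ := MulAction.exists_smul_eq X T' T
    have h1 := XE_map hT' g
    rw [← XE_coe_smul, hg] at h1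
    have h2 : A.map (MulAut.conj g).toMonoidHom ≤
        normalClosure (Cfsg.thompsonSubgroupAOf (T : Subgroup X) : Set X) :=
      h1.le_thompson.trans le_normalClosure
    intro x hx
    have h3 := h2 ⟨x, hx, rfl⟩
    have h4 := (normalClosure_normal (s := (Cfsg.thompsonSubgroupAOf (T : Subgroup X) : Set X))).conj_mem
      _ h3 g⁻¹
    simpa [mul_assoc] using h4

end Cfsg.Agent.Lib.Helper74.GlS3
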