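import Cfsg.Agent.Lib.Helper7.GlS3.Defs
import Cfsg.Agent.Lib.Helper50.ThompsonA

set_option autoImplicit false

namespace Cfsg.Agent.Lib.Helper74.GlS3

open Subgroup Cfsg.Agent.Lib.Helper7.GlS3 Cfsg.Agent.Lib.Helper48 Cfsg.Agent.Lib.Helper50

theorem XI_eq_joinMax {X : Type*} [Group X] (T : Subgroup X) :
    Cfsg.thompsonSubgroupAOf T =
      Cfsg.Agent.Lib.Helper11.joinMax (fun A : Subgroup X => IsMulCommutative A) T := by
  apply le_antisymm
  · exact thompsonSubgroupAOf_le (fun A hA => le_sSup (show Cfsg.Agent.Lib.Helper11.IsMaxIn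
      (fun A : Subgroup X => IsMulCommutative A) T A from hA))
  · apply sSup_le
    intro A hA
    exact IsMaxAbIn.le_thompson (show IsMaxAbIn T A from hA)

theorem frattiniA {X : Type*} [Group X] [Finite X] (T : Sylow 2 X) :
    normalClosure (Cfsg.thompsonSubgroupAOf (T : Subgroup X) : Set X) ⊔
      normalizer (Cfsg.thompsonSubgroupAOf (T : Subgroup X) : Set X) = ⊤ := by
  have : Fact (Nat.Prime 2) := ⟨Nat.prime_two⟩
  rw [sup_comm, eq_top_iff, ← Cfsg.Agent.Lib.Helper11.normalizer_sylow_inf_sup_eq_top T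
    (normalClosure (Cfsg.thompsonSubgroupAOf (T : Subgroup X) : Set X))]
  refine sup_le_sup_right ?_ _
  have haut : ∀ (φ : MulAut X) (A : Subgroup X), IsMulCommutative A →
      IsMulCommutative (A.map φ.toMonoidHom) := fun φ A hA => by
    have := hA; exact Subgroup.map_isMulCommutative A φ.toMonoidHom
  have h1 := Cfsg.Agent.Lib.Helper11.normalizer_le_normalizer_joinMax
    (Q := fun A : Subgroup X => IsMulCommutative A) haut
    ((T : Subgroup X) ⊓ normalClosure (Cfsg.thompsonSubgroupAOf (T : Subgroup X) : Set X))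
  have hle : Cfsg.thompsonSubgroupAOf (T : Subgroup X) ≤ T := thompsonSubgroupAOf_le_self _
  have hle2 : Cfsg.thompsonSubgroupAOf (T : Subgroup X) ≤
      normalClosure (Cfsg.thompsonSubgroupAOf (T : Subgroup X) : Set X) := le_normalClosure
  obtain ⟨A₀, hA₀⟩ := exists_isMaxAbIn (T : Subgroup X)
  have h2 := Cfsg.Agent.Lib.Helper11.joinMax_eq_of_le
    (Q := fun A : Subgroup X => IsMulCommutative A) (S := (T : Subgroup X))
    (T := (T : Subgroup X) ⊓ normalClosure (Cfsg.thompsonSubgroupAOf (T : Subgroup X) : Set X))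
    inf_le_left (by rw [← XI_eq_joinMax]; exact le_inf hle hle2) ⟨A₀, hA₀⟩
  rw [h2, ← XI_eq_joinMax] at h1
  exact h1

end Cfsg.Agent.Lib.Helper74.GlS3
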