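import Cfsg.Agent.Lib.Helper7.GlS3.Defs

set_option autoImplicit false

namespace Cfsg.Agent.Lib.Helper74.GlS3

open Subgroup Cfsg.Agent.Lib.Helper7.GlS3 Cfsg.Agent.Lib.Helper48

theorem quot_equiv {K : Type*} [Group K] (V : Subgroup K) [V.Characteristic] (J C : Subgroup K)
    [C.Normal] (hC : C = centralizer (V : Set K)) :
    Nonempty (↥J ⧸ C.subgroupOf J ≃* ↥(J.map (ps V))) := by
  have hker : ((ps V).subgroupMap J).ker = C.subgroupOf J := by
    ext x
    rw [MonoidHom.mem_ker, mem_subgroupOf, hC, ← ps_eq_one_iff]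
    constructor
    · intro h
      exact congrArg Subtype.val h
    · intro h
      exact Subtype.ext h
  exact ⟨(QuotientGroup.quotientMulEquivOfEq hker.symm).trans
    (QuotientGroup.quotientKerEquivOfSurjective _ ((ps V).subgroupMap_surjective J))⟩

end Cfsg.Agent.Lib.Helper74.GlS3
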